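import Groth.Agent.Lib.FreeRetract9.Basic
import Groth.Agent.Lib.Ample.FiniteGen
import Groth.Agent.Lib.QCoh.Extension
import Groth.Agent.Lib.QCoh.Abelian

/-! # Finite free modules on an affine scheme covering a finite type module on an open -/

set_option autoImplicit false
set_option backward.isDefEq.respectTransparency false
set_option linter.style.haveILetI false
set_option maxHeartbeats 1000000
universe u

open CategoryTheory CategoryTheory.Limits AlgebraicGeometry TopologicalSpace Opposite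
open GrothLib.InvExt (mres)

noncomputable section

namespace GrothLib.ExtendCx20

variable {X : Scheme.{u}} [IsAffine X] (U : X.Opens)

/-- A global section restricted to `U`. -/
def secU (Z : X.Modules) (m : Γ(Z, ⊤)) : Γ(Z.restrict U.ι, ⊤) :=
  mres Z (le_top : U.ι ''ᵁ ⊤ ≤ ⊤) m

theorem mem_span_map {M M' : (U : Scheme.{u}).Modules} (p : M ⟶ M') {W : (U : Scheme.{u}).Opens} {ι : Type*}
    (s : ι → Γ(M, W)) {y : Γ(M, W)} (hy : y ∈ Submodule.span Γ(U, W) (Set.range s)) :
    p.app W y ∈ Submodule.span Γ(U, W) (Set.range fun i => p.app W (s i)) := by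
  induction hy using Submodule.span_induction with
  | mem z hz => obtain ⟨i, rfl⟩ := hz; exact Submodule.subset_span ⟨i, rfl⟩
  | zero => rw [map_zero]; exact Submodule.zero_mem _
  | add z w _ _ hz hw => rw [map_add]; exact add_mem hz hw
  | smul r z _ hz => rw [Scheme.Modules.Hom.app_smul]; exact Submodule.smul_mem _ _ hz

theorem mem_span_basicOpen_top (Z : X.Modules) [Z.IsQuasicoherent] {O : X.Opens} {f : Γ(X, ⊤)}
    (hO : O = X.basicOpen f) (y : Γ(Z, O)) :
    y ∈ Submodule.span Γ(X, O) (Set.range fun i => mres Z (le_top : O ≤ ⊤) i) := by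
  subst hO
  have h := Ample.mem_span_of_basicOpen Z (isAffineOpen_top X) f Set.univ Submodule.span_univ y
  rwa [Set.image_univ] at h

omit [IsAffine X] in
/-- The span over the functions of the open subscheme is the span over the functions of the image. -/
theorem mem_span_restrict (Z : X.Modules) {W : (U : Scheme.{u}).Opens} {S : Set Γ(Z, U.ι ''ᵁ W)}
    {y : Γ(Z, U.ι ''ᵁ W)} (hy : y ∈ Submodule.span Γ(X, U.ι ''ᵁ W) S) :
    id (α := Γ(Z.restrict U.ι, W)) y ∈
      Submodule.span Γ(U, W) (id (α := Set Γ(Z.restrict U.ι, W)) S) := by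
  induction hy using Submodule.span_induction with
  | mem z hz => exact Submodule.subset_span hz
  | zero => exact Submodule.zero_mem (Submodule.span Γ(U, W) (id (α := Set Γ(Z.restrict U.ι, W)) S))
  | add z w _ _ hz hw => exact add_mem hz hw
  | smul r z _ hz =>
    have h : id (α := Γ(Z.restrict U.ι, W)) (r • z) =
        (U.ι.appIso W).hom r • id (α := Γ(Z.restrict U.ι, W)) z :=
      congrArg (fun q => q z) (Scheme.Modules.smul_restrictAppIso_inv U.ι Z W r)
    rw [h]
    exact Submodule.smul_mem _ _ hz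

theorem mres_secU (Z : X.Modules) (W : (U : Scheme.{u}).Opens) (i : Γ(Z, ⊤)) :
    mres (Z.restrict U.ι) (le_top : W ≤ ⊤) (secU U Z i) =
      id (α := Γ(Z.restrict U.ι, W)) (mres Z (le_top : U.ι ''ᵁ W ≤ ⊤) i) :=
  InvExt.mres_mres Z (le_top : U.ι ''ᵁ ⊤ ≤ ⊤) (Scheme.Hom.image_mono U.ι (le_top : W ≤ ⊤)) i

theorem mem_span_secU (Z : X.Modules) [Z.IsQuasicoherent] {W : (U : Scheme.{u}).Opens} {f : Γ(X, ⊤)}
    (hW : U.ι ''ᵁ W = X.basicOpen f) (y : Γ(Z.restrict U.ι, W)) :
    y ∈ Submodule.span Γ(U, W)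
      (Set.range fun i => mres (Z.restrict U.ι) (le_top : W ≤ ⊤) (secU U Z i)) := by
  have h := mem_span_restrict U Z (mem_span_basicOpen_top Z hW (id (α := Γ(Z, U.ι ''ᵁ W)) y))
  refine Submodule.span_mono ?_ h
  intro z hz
  obtain ⟨i, rfl⟩ := hz
  exact ⟨i, mres_secU U Z W i⟩

theorem exists_free_cover (hU : IsCompact (U : Set X)) {Z : X.Modules} [Z.IsQuasicoherent]
    {H : (U : Scheme.{u}).Modules} [H.IsQuasicoherent] (hH : CohB1.IsFT H) (p : Z.restrict U.ι ⟶ H) [Epi p] :
    ∃ (k : ℕ) (ψ : FlatMod.freeMod X k ⟶ Z), Epi ((Scheme.Modules.restrictFunctor U.ι).map ψ ≫ p) := by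
  classical
  haveI : CompactSpace (U : Scheme.{u}) := isCompact_iff_compactSpace.1 hU
  let T := ShortComplex.mk (kernel.ι p) p (kernel.condition p)
  have hT : T.ShortExact :=
    { exact := ShortComplex.exact_of_f_is_kernel _ (kernelIsKernel p)
      mono_f := inferInstanceAs (Mono (kernel.ι p))
      epi_g := inferInstanceAs (Epi p) }
  haveI : T.X₁.IsQuasicoherent := QCoh.isQuasicoherent_kernel p
  let s : Γ(Z, ⊤) → Γ(H, ⊤) := fun m => p.app ⊤ (secU U Z m)
  have hs : Ample.Spanned H s := by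
    intro O m x hx
    have hx' : U.ι.base x ∈ U.ι ''ᵁ O := ⟨x, hx, rfl⟩
    obtain ⟨f, hf, hxf⟩ := (isAffineOpen_top X).exists_basicOpen_le (V := U.ι ''ᵁ O) ⟨_, hx'⟩ (Opens.mem_top _)
    let W : (U : Scheme.{u}).Opens := U.ι ⁻¹ᵁ X.basicOpen f
    have hfU : X.basicOpen f ≤ U.ι.opensRange := hf.trans (Scheme.Hom.image_le_opensRange _ _)
    have hWA : IsAffineOpen W :=
      ((isAffineOpen_top X).basicOpen f).preimage_of_isOpenImmersion U.ι hfU
    have hWO : W ≤ O := by
      intro y hy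
      obtain ⟨z, hz, hzy⟩ := hf hy
      rwa [← U.ι.isOpenEmbedding.injective hzy]
    refine ⟨W, hWO, hxf, ?_⟩
    obtain ⟨y, hy⟩ := QCoh.app_surjective_of_isAffineOpen hT hWA (mres H hWO m)
    rw [← hy]
    have hle : U.ι ''ᵁ W ≤ ⊤ := le_top
    have hW : U.ι ''ᵁ W = X.basicOpen f := by
      rw [U.ι.image_preimage_eq_opensRange_inf, inf_eq_right]
      exact hfU
    have hyspan := mem_span_secU U Z hW y
    have h2 := mem_span_map U p (W := W) _ hyspan
    simp only [Ample.app_mres] at h2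
    exact h2
  obtain ⟨k, t, ht⟩ := Ample.exists_finite_spanned H
    (fun _ => ⟨⊤, trivial, fun W hW _ => QCoh.moduleFinite_of_isFiniteType H hH hW⟩) s hs
  refine ⟨k, FreeRetract9.lift t, ⟨fun {N} g g' hgg => ?_⟩⟩
  refine Scheme.Modules.hom_ext g g' fun O => ?_
  ext (m : Γ(H, O))
  have hst : ∀ i, g.app ⊤ (s (t i)) = g'.app ⊤ (s (t i)) := by
    intro i
    have h := congrArg (fun q : _ ⟶ N => q.app ⊤ (secU U _ (ASBun21.std X i ⊤))) hgg
    have e : ((Scheme.Modules.restrictFunctor U.ι).map (FreeRetract9.lift t)).app ⊤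
        (secU U _ (ASBun21.std X i ⊤)) = secU U Z (t i) := by
      refine Eq.trans (Ample.app_mres (FreeRetract9.lift t) _ _) ?_
      rw [FreeRetract9.lift_std]
      rfl
    show g.app ⊤ (p.app ⊤ _) = g'.app ⊤ (p.app ⊤ _)
    rw [← e]
    exact h
  choose W hW hxW hspan using fun x : O => ht O m x.1 x.2
  refine Ample.meq_of_cover N W hW (fun x hx => Opens.mem_iSup.mpr ⟨⟨x, hx⟩, hxW ⟨x, hx⟩⟩) fun x => ?_
  rw [← Ample.app_mres, ← Ample.app_mres]
  have hy := hspan x
  generalize mres H (hW x) m = y at hy ⊢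
  induction hy using Submodule.span_induction with
  | mem z hz =>
    obtain ⟨i, rfl⟩ := hz
    rw [Ample.app_mres, Ample.app_mres]
    exact congrArg _ (hst i)
  | zero => rw [map_zero, map_zero]
  | add z w _ _ hz hw => rw [map_add, map_add, hz, hw]
  | smul r z _ hz => rw [Ample.app_smul, Ample.app_smul, hz]

end GrothLib.ExtendCx20
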