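import Groth.Agent.Lib.ExtendCx20.Stage
import Groth.Agent.Lib.StrictRes20.Perfect
import Groth.Agent.Lib.OX.HomVanish
import Groth.Agent.Lib.OX.GenFinHom

/-! # Perfect objects on a quasi-compact open of an affine scheme extend after adding a shifted bundle -/

set_option autoImplicit false
set_option backward.isDefEq.respectTransparency false
set_option linter.style.haveILetI false
set_option maxHeartbeats 1000000
universe u

open CategoryTheory CategoryTheory.Limits CategoryTheory.Pretriangulated AlgebraicGeometry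
attribute [local instance] HasDerivedCategory.standard

noncomputable section

namespace GrothLib.ExtendCx20

variable {X : Scheme.{u}} [IsAffine X] (U : X.Opens) (hU : IsCompact (U : Set X))

/-- Termwise direct image of a complex from an open. -/
def pushCx (F' : CochainComplex (U : Scheme.{u}).Modules ℤ) : CochainComplex X.Modules ℤ :=
  ((Scheme.Modules.pushforward U.ι).mapHomologicalComplex (ComplexShape.up ℤ)).obj F'

/-- Restricting the termwise direct image gives the complex back. -/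
def resPushCxIso (F' : CochainComplex (U : Scheme.{u}).Modules ℤ) :
    (DCoh.restrictCx U).obj (pushCx U F') ≅ F' :=
  HomologicalComplex.Hom.isoOfComponents
    (fun i => (Scheme.Modules.restrictFunctorAdjCounitIso U.ι).app (F'.X i))
    (fun i j _ => ((Scheme.Modules.restrictFunctorAdjCounitIso U.ι).hom.naturality (F'.d i j)).symm)

include hU in
theorem exists_split (E : DCoh.D (U : Scheme.{u})) (hE : DCoh.IsPerfect E)
    [∀ (A B : DCoh.D (U : Scheme.{u})), HasBinaryBiproduct A B] :
    ∃ (r : ℤ) (M : (U : Scheme.{u}).Modules) (G : CochainComplex X.Modules ℤ),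
      FlatMod.IsFinLocFree M ∧ DCoh.IsPerfect (DCoh.toD X G) ∧
      Nonempty (DerivedCategory.Q.obj ((DCoh.restrictCx U).obj G) ≅
        (DCoh.inD (U : Scheme.{u}) M)⟦-r⟧ ⊞ E) := by
  haveI hc : CompactSpace (U : Scheme.{u}) := isCompact_iff_compactSpace.1 hU
  haveI : (U : Scheme.{u}).IsSeparated :=
    ⟨by
      rw [show terminal.from (U : Scheme.{u}) = U.ι ≫ terminal.from X from Subsingleton.elim _ _]
      infer_instance⟩
  haveI : QuasiCompact U.ι := (HasAffineProperty.iff_of_isAffine (P := @QuasiCompact)).2 hc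
  haveI : QuasiSeparated U.ι := inferInstance
  obtain ⟨m₀, n₀, hamp⟩ := StrictRes20.exists_amplitude hE
  obtain ⟨c, d, hvan⟩ := OX.vanRange_of_isPerfect hE
  let n := max m₀ n₀
  haveI : E.IsGE m₀ := KSix19.ProjPush.isGE_of_flatAmplitude
    (KSix19.flatAmplitude_of_perfectAmplitude (hamp m₀ n le_rfl (le_max_right _ _)))
  obtain ⟨F', hF0, hF'q, ⟨e'⟩⟩ := StrictRes20.exists_qcoh_rep_bddBelow
    (fun _ _ h h' => IsAffineOpen.inf h h') E (OX.isQCohD_of_isPerfect hE) m₀
  let F := pushCx U F'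
  let FU := (DCoh.restrictCx U).obj F
  let e : DCoh.toD _ FU ≅ E := DerivedCategory.Q.mapIso (resPushCxIso U F') ≪≫ e'
  have hFq : ∀ i, Coh.IsQCoh (F.X i) := fun i => by
    haveI : (F'.X i).IsQuasicoherent := hF'q i
    exact QCoh.isQuasicoherent_pushforward U.ι _
  haveI : (Scheme.Modules.pushforward U.ι).Additive :=
    (Scheme.Modules.restrictAdjunction U.ι).right_adjoint_additive
  have hFz : ∀ i, i < m₀ → IsZero (F.X i) := fun i hi =>
    (Scheme.Modules.pushforward U.ι).map_isZero (hF0 i hi)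
  have hFU : DCoh.IsPerfect (DCoh.toD _ FU) := OX.isPerfect_of_iso hE e.symm
  obtain ⟨m₁, n₁, hamp'⟩ := StrictRes20.exists_amplitude hFU
  let N := max m₁ n₁
  let m := min m₁ (min (m₀ - 1) (c - 1))
  have hm1 : m ≤ m₁ := min_le_left _ _
  have hm0 : m ≤ m₀ - 1 := (min_le_right _ _).trans (min_le_left _ _)
  have hmc : m ≤ c - 1 := (min_le_right _ _).trans (min_le_right _ _)
  have hA := hamp' m N hm1 (le_max_right _ _)
  haveI : (DCoh.toD _ FU).IsLE N :=
    KSix19.ProjPush.isLE_of_flatAmplitude (KSix19.flatAmplitude_of_perfectAmplitude hA)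
  have hb : ∀ i, N < i → IsZero (FU.homology i) := fun i hi =>
    (DerivedCategory.isZero_of_isLE (DCoh.toD _ FU) N i hi).of_iso (OX.hdIso FU i).symm
  obtain ⟨G, φ, hG, hfr, hC⟩ := exists_stage U F hU hFq
    (OX.isPseudoCoherentD_of_isPerfect hFU) N hb (N - m).toNat
  have hmN : m ≤ N := hm1.trans (le_max_left _ _)
  rw [show N + 1 - ((N - m).toNat : ℤ) = m + 1 by omega] at hG hC
  have hGfl := isFinLocFree_terms hfr
  let φU := (DCoh.restrictCx U).map φ
  let GU := (DCoh.restrictCx U).obj G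
  let CU := CochainComplex.mappingCone φU
  have hGU : DCoh.VanishesOutside GU (m + 1) N := fun i hi =>
    (Scheme.Modules.restrictFunctor U.ι).map_isZero (hG i hi)
  have hT := DerivedCategory.mappingCone_triangle_distinguished φU
  have hM : FlatMod.IsFinLocFree (DCoh.HD (DCoh.toD _ CU) m) :=
    KSix19.ProjPush.isFinLocFree_bottom GU m N hGU (fun i => OX.isFinLocFree_restrict U.ι (hGfl i)) hA hT
      fun i hi => (hC i hi).of_iso (OX.hdIso CU i)
  have hlow : ∀ i, i < m → IsZero (CU.homology i) := fun i hi =>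
    ShortComplex.isZero_homology_of_isZero_X₂ _ (((biprod_isZero_iff _ _).2
      ⟨hGU (i + 1) (Or.inl (by omega)), (Scheme.Modules.restrictFunctor U.ι).map_isZero (hFz i (by omega))⟩).of_iso
      (HomologicalComplex.homotopyCofiber.XIsoBiprod φU i (i + 1) rfl))
  haveI : (DCoh.toD _ CU).IsGE m :=
    (DerivedCategory.isGE_iff _ _).2 fun i hi => (hlow i hi).of_iso (OX.hdIso CU i)
  haveI : (DCoh.toD _ CU).IsLE m :=
    (DerivedCategory.isLE_iff _ _).2 fun i hi => (hC i (by omega)).of_iso (OX.hdIso CU i)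
  obtain ⟨Y, ⟨s⟩⟩ := DerivedCategory.exists_iso_singleFunctor_obj_of_isGE_of_isLE (DCoh.toD _ CU) m
  let sY : DCoh.HD (DCoh.toD _ CU) m ≅ Y := (DerivedCategory.homologyFunctor _ m).mapIso s ≪≫
    (DerivedCategory.singleFunctorCompHomologyFunctorIso _ m).app Y
  have hY : FlatMod.IsFinLocFree Y := DCoh.isFinLocFree_of_iso sY hM
  have hqC : DCoh.IsQCohD (DCoh.toD _ CU) := fun i => by
    by_cases h : i = m
    · rw [h]; exact Euler.isQuasicoherent_of_isFinLocFree hM
    · refine OX.isQCoh_of_isZero ?_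
      rcases lt_or_gt_of_ne h with h' | h'
      · exact DerivedCategory.isZero_of_isGE (DCoh.toD _ CU) m i h'
      · exact DerivedCategory.isZero_of_isLE (DCoh.toD _ CU) m i h'
  let T := DerivedCategory.Q.mapTriangle.obj (CochainComplex.mappingCone.triangle φU)
  have h2 : T.mor₂ = 0 := by
    have h0 := hvan (DCoh.toD _ CU) hqC
      (fun i hi _ => DerivedCategory.isZero_of_isLE (DCoh.toD _ CU) m i (by omega)) (e.inv ≫ T.mor₂)
    exact (cancel_epi e.inv).1 (h0.trans comp_zero.symm)
  obtain ⟨β, -, -⟩ := exists_iso_binaryBiproduct_of_distTriang T.invRotate (inv_rot_of_distTriang _ hT) (by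
    simp only [Triangle.invRotate, Triangle.mk_mor₃]
    rw [h2, zero_comp])
  let a : T.invRotate.obj₁ ≅ (DCoh.inD (U : Scheme.{u}) Y)⟦-(m + 1)⟧ :=
    (shiftFunctor _ (-1 : ℤ)).mapIso (s ≪≫ (OX.singleShiftNeg Y m).symm) ≪≫
      ((shiftFunctorAdd' _ (-m) (-1) (-(m + 1)) (by omega)).app _).symm
  refine ⟨m + 1, Y, G, hY, KSix19.ProjPush.isPerfect_Q G ⟨⟨m + 1, N, hG⟩, hGfl⟩,
    ⟨β ≪≫ biprod.mapIso a e⟩⟩

end GrothLib.ExtendCx20
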