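import Groth.Agent.Lib.ExtendCx20.Stage
import Groth.Agent.Lib.ExtendCx20.Split
import Groth.Agent.Lib.KSix19.ProjPush.PCTwists
import Mathlib.CategoryTheory.Functor.OfSequence
import Mathlib.CategoryTheory.Limits.Constructions.EventuallyConstant

/-! # Pseudo-coherent objects on an open of an affine scheme: global free complexes -/

set_option autoImplicit false
set_option backward.isDefEq.respectTransparency false
set_option linter.style.haveILetI false
set_option maxHeartbeats 1000000
universe u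

open CategoryTheory CategoryTheory.Limits AlgebraicGeometry
attribute [local instance] HasDerivedCategory.standard

noncomputable section

namespace GrothLib.ExtendCx20

/-- Bounded above quasi-coherent representatives, for affine diagonal. -/
theorem exists_qcoh_rep_bddAbove {X : Scheme.{u}} [CompactSpace X]
    (hdiag : ∀ U V : X.Opens, IsAffineOpen U → IsAffineOpen V → IsAffineOpen (U ⊓ V))
    (K : DCoh.D X) (hK : DCoh.IsQCohD K) (b : ℤ) [K.IsLE b] :
    ∃ F : CochainComplex X.Modules ℤ, (∀ n, b < n → IsZero (F.X n)) ∧ (∀ n, Coh.IsQCoh (F.X n)) ∧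
      Nonempty (DCoh.toD X F ≅ K) := by
  haveI : ObjectProperty.ContainsZero (fun M : X.Modules => Coh.IsQCoh M) :=
    inferInstanceAs (QCohCat.isQCoh X).ContainsZero
  haveI : ObjectProperty.IsClosedUnderKernels (fun M : X.Modules => Coh.IsQCoh M) :=
    inferInstanceAs (QCohCat.isQCoh X).IsClosedUnderKernels
  haveI : ObjectProperty.IsClosedUnderCokernels (fun M : X.Modules => Coh.IsQCoh M) :=
    inferInstanceAs (QCohCat.isQCoh X).IsClosedUnderCokernels
  haveI : ObjectProperty.IsClosedUnderFiniteProducts (fun M : X.Modules => Coh.IsQCoh M) :=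
    inferInstanceAs (QCohCat.isQCoh X).IsClosedUnderFiniteProducts
  haveI : PreservesFiniteLimits (ObjectProperty.ι (fun M : X.Modules => Coh.IsQCoh M)) :=
    QCohCat20.preservesFiniteLimits_ι (X := X)
  haveI : PreservesFiniteColimits (ObjectProperty.ι (fun M : X.Modules => Coh.IsQCoh M)) :=
    haveI : ∀ {A B : QCohCat.QCoh X} (f : A ⟶ B), PreservesColimit (parallelPair f 0) (QCohCat.isQCoh X).ι :=
      fun {A B} f => (QCohCat.isQCoh X).preservesCokernels_ι f
    Functor.preservesFiniteColimits_of_preservesCokernels (QCohCat.isQCoh X).ι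
  obtain ⟨M, ⟨e⟩⟩ := ((Groth.Agent.S1048.result X hdiag).2.2 K).1 hK
  let ι := ObjectProperty.ι (fun M : X.Modules => Coh.IsQCoh M)
  let C := DerivedCategory.Q.objPreimage M
  let W : CochainComplex X.Modules ℤ := (ι.mapHomologicalComplex (ComplexShape.up ℤ)).obj C
  let eW : DCoh.toD X W ≅ K := (ι.mapDerivedCategoryFactors.app C).symm ≪≫
    ι.mapDerivedCategory.mapIso (DerivedCategory.Q.objObjPreimageIso M) ≪≫ e
  haveI : (DCoh.toD X W).IsLE b := DerivedCategory.TStructure.t.isLE_of_iso eW.symm b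
  haveI : W.IsLE b := (W.isLE_iff b).2 fun i hi => (HomologicalComplex.exactAt_iff_isZero_homology _ _).2
    ((DerivedCategory.isZero_of_isLE (DCoh.toD X W) b i hi).of_iso (OX.hdIso W i).symm)
  haveI : IsIso (DerivedCategory.Q.map (W.ιTruncLE b)) :=
    (DerivedCategory.isIso_Q_map_iff_quasiIso _ _).2 inferInstance
  have hq : ∀ n, Coh.IsQCoh (W.X n) := fun n => (C.X n).property
  refine ⟨W.truncLE b, fun n hn => CochainComplex.isZero_of_isStrictlyLE _ b n hn, fun n => ?_,
    ⟨asIso (DerivedCategory.Q.map (W.ιTruncLE b)) ≪≫ eW⟩⟩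
  rcases lt_trichotomy n b with hn | hn | hn
  · exact OX.isQCoh_of_iso (W.truncLEXIso b n hn).symm (hq n)
  · subst hn
    exact OX.isQCoh_of_iso (W.truncLEXIsoCycles n).symm (OX.isQCoh_cycles W hq n)
  · exact OX.isQCoh_of_isZero (CochainComplex.isZero_of_isStrictlyLE _ b n hn)

variable {X : Scheme.{u}} (U : X.Opens) (F : CochainComplex X.Modules ℤ)

/-- A stage of the approximation. -/
structure Data (b : ℤ) (r : ℕ) where
  G : CochainComplex X.Modules ℤ
  φ : G ⟶ F
  van : DCoh.VanishesOutside G (b + 1 - r) b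
  free : ∀ i, ∃ n : ℕ, Nonempty (G.X i ≅ FlatMod.freeMod X n)
  cone : ∀ i, b + 1 - (r : ℤ) ≤ i →
    IsZero ((CochainComplex.mappingCone ((DCoh.restrictCx U).map φ)).homology i)

variable [IsAffine X] (hU : IsCompact (U : Set X)) (hFq : ∀ n : ℤ, Coh.IsQCoh (F.X n))
  (hFpc : ∀ m : ℤ, DCoh.IsPseudoCoherentD m (DCoh.toD (U : Scheme.{u}) ((DCoh.restrictCx U).obj F)))
  (b : ℤ) (hb : ∀ i, b < i → IsZero (((DCoh.restrictCx U).obj F).homology i))

include hU hFq hFpc in
theorem exists_next {r : ℕ} (d : Data U F b r) :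
    ∃ (d' : Data U F b (r + 1)) (ι : d.G ⟶ d'.G), ι ≫ d'.φ = d.φ ∧ ∀ i, i ≠ b - r → IsIso (ι.f i) := by
  obtain ⟨G', φ', ι, h₁, h₂, h₃, h₄, h₅⟩ :=
    stage_step_map U F hU hFq hFpc (show b + 1 - (r : ℤ) ≤ b + 1 by omega) d.φ d.van d.free d.cone
  exact ⟨⟨G', φ', fun i hi => h₁ i (by push_cast at hi; omega), h₂, fun i hi => h₃ i (by push_cast at hi; omega)⟩,
    ι, h₄, fun i hi => h₅ i (by omega)⟩

include hU hFq hFpc hb in
theorem exists_resolution :
    ∃ (G : CochainComplex X.Modules ℤ) (φ : G ⟶ F), (∀ i, b < i → IsZero (G.X i)) ∧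
      (∀ i, ∃ n : ℕ, Nonempty (G.X i ≅ FlatMod.freeMod X n)) ∧
      QuasiIso ((DCoh.restrictCx U).map φ) := by
  obtain ⟨G₀, φ₀, v₀, f₀, c₀⟩ := stage_top U F b hb
  have h0 : Nonempty (Data U F b 0) :=
    ⟨⟨G₀, φ₀, fun i hi => v₀ i (by simpa using hi), f₀, fun i hi => c₀ i (by simpa using hi)⟩⟩
  choose next ι hι hiso using fun (r : ℕ) (d : Data U F b r) => exists_next U F hU hFq hFpc b d
  let d : (r : ℕ) → Data U F b r := fun r =>
    Nat.rec (motive := fun r => Data U F b r) h0.some (fun r d => next r d) r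
  let D : ℕ ⥤ CochainComplex X.Modules ℤ := Functor.ofSequence (X := fun r => (d r).G) fun r => ι r (d r)
  let c : Cocone D :=
    { pt := F
      ι := CategoryTheory.NatTrans.ofSequence (fun r => (d r).φ) (fun r => by
        simp only [D, Functor.ofSequence_map_homOfLE_succ, Functor.const_obj_map, Category.comp_id]
        exact hι r (d r)) }
  have hev : ∀ (i : ℤ) (r : ℕ), b + 1 - (r : ℤ) ≤ i →
      (D ⋙ HomologicalComplex.eval _ _ i).IsEventuallyConstantFrom r := by
    intro i r hr j f
    have hrj : r ≤ j := leOfHom f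
    rw [Subsingleton.elim f (homOfLE hrj)]
    induction hrj with
    | refl =>
      rw [show (homOfLE (le_refl r) : r ⟶ r) = 𝟙 r from rfl, CategoryTheory.Functor.map_id]
      infer_instance
    | @step m hm ih =>
      rw [← homOfLE_comp hm (Nat.le_succ m), Functor.map_comp]
      haveI := ih (homOfLE hm)
      haveI : IsIso ((D ⋙ HomologicalComplex.eval _ _ i).map (homOfLE (Nat.le_succ m))) := by
        simp only [D, Functor.comp_map, HomologicalComplex.eval_map]
        rw [Functor.ofSequence_map_homOfLE_succ]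
        have hm' : r ≤ m := hm
        exact hiso m (d m) i (by omega)
      exact IsIso.comp_isIso
  have hι' : ∀ (i : ℤ) (r : ℕ), b + 1 - (r : ℤ) ≤ i → IsIso ((colimit.ι D r).f i) := fun i r hr =>
    (hev i r hr).isIso_ι_of_isColimit (isColimitOfPreserves (HomologicalComplex.eval _ _ i) (colimit.isColimit D))
  refine ⟨colimit D, colimit.desc D c, fun i hi => ?_, fun i => ?_, ?_⟩
  · haveI := hι' i 0 (by omega)
    exact ((d 0).van i (Or.inr hi)).of_iso (asIso ((colimit.ι D 0).f i)).symm
  · obtain ⟨n, ⟨e⟩⟩ := (d (b + 1 - i).toNat).free i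
    haveI := hι' i (b + 1 - i).toNat (by omega)
    exact ⟨n, ⟨(asIso ((colimit.ι D (b + 1 - i).toNat).f i)).symm ≪≫ e⟩⟩
  · rw [DerCat.quasiIso_iff_acyclic_mappingCone]
    intro i
    rw [HomologicalComplex.exactAt_iff_isZero_homology]
    let r := (b + 2 - i).toNat
    refine IsZero.of_iso ?_ (coneIso U F (colimit.desc D c) i)
    let θ := CochainComplex.mappingCone.map (d r).φ (colimit.desc D c) (colimit.ι D r) (𝟙 F)
      (by simpa [c] using (colimit.ι_desc c r).symm)
    have hθ : ∀ q, i - 1 ≤ q → IsIso (θ.f q) := fun q hq => by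
      haveI := hι' (q + 1) r (by omega)
      have hinl : ∀ (p' q' : ℤ) (h : p' + (-1) = q'), (CochainComplex.mappingCone.inl (d r).φ).v p' q' h ≫ θ.f q' =
          (colimit.ι D r).f p' ≫ (CochainComplex.mappingCone.inl (colimit.desc D c)).v p' q' h := fun p' q' h => by
        simp [θ, CochainComplex.mappingCone.map]
      have hinr : (CochainComplex.mappingCone.inr (d r).φ).f q ≫ θ.f q =
          (CochainComplex.mappingCone.inr (colimit.desc D c)).f q := by
        simp [θ, CochainComplex.mappingCone.map]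
      refine ⟨(CochainComplex.mappingCone.fst (colimit.desc D c)).1.v q (q + 1) rfl ≫
        inv ((colimit.ι D r).f (q + 1)) ≫ (CochainComplex.mappingCone.inl (d r).φ).v (q + 1) q (by omega) +
        (CochainComplex.mappingCone.snd (colimit.desc D c)).v q q (add_zero q) ≫
          (CochainComplex.mappingCone.inr (d r).φ).f q, ?_, ?_⟩
      · rw [CochainComplex.mappingCone.ext_from_iff (d r).φ (q + 1) q rfl]
        refine ⟨?_, ?_⟩
        · rw [← Category.assoc, hinl]
          simp
        · rw [← Category.assoc, hinr]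
          simp
      · rw [CochainComplex.mappingCone.ext_from_iff (colimit.desc D c) (q + 1) q rfl]
        refine ⟨?_, ?_⟩
        · simp [hinl]
        · simp [hinr]
    haveI : IsIso (HomologicalComplex.homologyMap θ i) := by
      let s := (HomologicalComplex.shortComplexFunctor X.Modules (ComplexShape.up ℤ) i).map θ
      haveI : IsIso s.τ₁ := hθ _ (le_of_eq (CochainComplex.prev ℤ i).symm)
      haveI : IsIso s.τ₂ := hθ _ (by omega)
      haveI : IsIso s.τ₃ := hθ _ (le_trans (by omega) (le_of_eq (CochainComplex.next ℤ i).symm))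
      haveI : IsIso s := ShortComplex.isIso_of_isIso s
      exact inferInstanceAs (IsIso ((ShortComplex.homologyFunctor X.Modules).map s))
    exact ((d r).cone i (by omega)).of_iso ((Scheme.Modules.restrictFunctor U.ι).mapIso
      (asIso (HomologicalComplex.homologyMap θ i)).symm ≪≫ (coneIso U F (d r).φ i).symm)

include hU in
theorem exists_free_extension (E : DCoh.D (U : Scheme.{u})) (hE : ∀ m : ℤ, DCoh.IsPseudoCoherentD m E) :
    ∃ (G : CochainComplex X.Modules ℤ) (b : ℤ), (∀ i : ℤ, b < i → IsZero (G.X i)) ∧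
      (∀ i : ℤ, ∃ n : ℕ, Nonempty (G.X i ≅ FlatMod.freeMod X n)) ∧
      Nonempty (DerivedCategory.Q.obj ((DCoh.restrictCx U).obj G) ≅ E) := by
  haveI hc : CompactSpace (U : Scheme.{u}) := isCompact_iff_compactSpace.1 hU
  haveI : (U : Scheme.{u}).IsSeparated :=
    ⟨by
      rw [show terminal.from (U : Scheme.{u}) = U.ι ≫ terminal.from X from Subsingleton.elim _ _]
      infer_instance⟩
  haveI : QuasiCompact U.ι := (HasAffineProperty.iff_of_isAffine (P := @QuasiCompact)).2 hc
  haveI : QuasiSeparated U.ι := inferInstance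
  obtain ⟨b, hb⟩ := KSix19.ProjPush.exists_bound_of_pc (hE 0)
  haveI : E.IsLE b := (DerivedCategory.isLE_iff _ _).2 hb
  obtain ⟨F', hF0, hF'q, ⟨e'⟩⟩ := exists_qcoh_rep_bddAbove
    (fun _ _ h h' => IsAffineOpen.inf h h') E (KSix19.ProjPush.isQCohD_of_pc hE) b
  let e : DCoh.toD _ ((DCoh.restrictCx U).obj (pushCx U F')) ≅ E :=
    DerivedCategory.Q.mapIso (resPushCxIso U F') ≪≫ e'
  have hFq : ∀ i, Coh.IsQCoh ((pushCx U F').X i) := fun i => by
    haveI : (F'.X i).IsQuasicoherent := hF'q i
    exact QCoh.isQuasicoherent_pushforward U.ι _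
  obtain ⟨G, φ, hG, hfr, hφ⟩ := exists_resolution U (pushCx U F') hU hFq
    (fun m => OX.isPseudoCoherentD_of_iso (hE m) e.symm) b
    (fun i hi => ((hb i hi).of_iso ((DerivedCategory.homologyFunctor _ i).mapIso e)).of_iso (OX.hdIso _ i).symm)
  haveI : IsIso (DerivedCategory.Q.map ((DCoh.restrictCx U).map φ)) :=
    (DerivedCategory.isIso_Q_map_iff_quasiIso _ _).2 hφ
  exact ⟨G, b, hG, hfr, ⟨asIso (DerivedCategory.Q.map ((DCoh.restrictCx U).map φ)) ≪≫ e⟩⟩

end GrothLib.ExtendCx20
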