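import Groth.Agent.Lib.StrictRes20.Step

/-! # Adding one term to the source of a map of complexes: the comparison of cones -/

set_option autoImplicit false
set_option backward.isDefEq.respectTransparency false
set_option linter.style.haveILetI false
set_option maxHeartbeats 1000000
universe v u

open CategoryTheory CategoryTheory.Limits HomologicalComplex
open CochainComplex CochainComplex.HomComplex

noncomputable section

namespace GrothLib.ExtendCx20

variable {A : Type u} [Category.{v} A] [Abelian A]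

/-- The step of descending induction, recording the comparison map of the cones. -/
theorem exists_step_map {E F : CochainComplex A ℤ} (φ : E ⟶ F) (j k : ℤ) (hjk : j + 1 = k)
    (hE : ∀ i, i < k → IsZero (E.X i)) {P : A} (ψ : P ⟶ (mappingCone φ).cycles j) :
    ∃ (g : (HomologicalComplex.single A (ComplexShape.up ℤ) k).obj P ⟶ E) (φ' : mappingCone g ⟶ F),
      (∀ i, i ≠ j → IsIso ((mappingCone.inr g).f i)) ∧ mappingCone.inr g ≫ φ' = φ ∧
      Nonempty ((mappingCone g).X j ≅ P) ∧
      ∃ θ : mappingCone φ ⟶ mappingCone φ', (∀ i, j ≤ i → Epi (homologyMap θ i)) ∧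
        ψ ≫ (mappingCone φ).homologyπ j ≫ homologyMap θ j = 0 := by
  subst hjk
  let S := (HomologicalComplex.single A (ComplexShape.up ℤ) (j + 1)).obj P
  have hS : ∀ i, i ≠ j + 1 → IsZero (S.X i) := fun i hi => HomologicalComplex.isZero_single_obj_X _ _ _ _ hi
  let x : P ⟶ (mappingCone φ).X j := ψ ≫ (mappingCone φ).iCycles j
  have hx : x ≫ (mappingCone φ).d j (j + 1) = 0 := by simp [x]
  let a : P ⟶ E.X (j + 1) := x ≫ (mappingCone.fst φ).1.v j (j + 1) rfl
  let b : P ⟶ F.X j := x ≫ (mappingCone.snd φ).v j j (add_zero j)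
  have ha : a ≫ E.d (j + 1) (j + 1 + 1) = 0 := by
    have h := congrArg (· ≫ (mappingCone.fst φ).1.v (j + 1) (j + 1 + 1) rfl) hx
    simp only [Category.assoc, mappingCone.d_fst_v φ j (j + 1) (j + 1 + 1) rfl rfl, zero_comp,
      Preadditive.comp_neg, neg_eq_zero] at h
    simpa [a] using h
  have hb : a ≫ φ.f (j + 1) + b ≫ F.d j (j + 1) = 0 := by
    have h := congrArg (· ≫ (mappingCone.snd φ).v (j + 1) (j + 1) (add_zero _)) hx
    simp only [Category.assoc, mappingCone.d_snd_v φ j (j + 1) rfl, zero_comp, Preadditive.comp_add] at h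
    simpa [a, b] using h
  let e := HomologicalComplex.singleObjXSelf (ComplexShape.up ℤ) (j + 1) P
  let g : S ⟶ E := HomologicalComplex.mkHomFromSingle a (fun i hi => by
    obtain rfl : j + 1 + 1 = i := hi
    exact ha)
  have hg : g.f (j + 1) = e.hom ≫ a := HomologicalComplex.mkHomFromSingle_f _ _
  let α : Cochain S F (-1) := Cochain.single (K := S) (L := F) (p := j + 1) (q := j) (-(e.hom ≫ b)) (-1)
  have hα : δ (-1) 0 α = Cochain.ofHom (g ≫ φ) := by
    ext p
    by_cases hp : p = j + 1
    · subst hp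
      rw [δ_v (-1) 0 (by omega) α (j + 1) (j + 1) (by omega) j (j + 1 + 1) (by omega) rfl,
        show α.v (j + 1) j (by omega) = -(e.hom ≫ b) from Cochain.single_v _ _ _,
        HomologicalComplex.single_obj_d, zero_comp, smul_zero, add_zero, Cochain.ofHom_v,
        HomologicalComplex.comp_f, hg, Category.assoc, eq_neg_of_add_eq_zero_left hb]
      simp
    · exact (hS p hp).eq_of_src _ _
  let φ' : mappingCone g ⟶ F := mappingCone.desc g α φ hα
  let v : P ⟶ (mappingCone g).X j := e.inv ≫ (mappingCone.inl g).v (j + 1) j (by omega)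
  have hvd : v ≫ (mappingCone g).d j (j + 1) = a ≫ (mappingCone.inr g).f (j + 1) := by
    simp only [v, Category.assoc, mappingCone.inl_v_d g (j + 1) j (j + 1 + 1) (by omega) (by omega)]
    rw [show S.d (j + 1) (j + 1 + 1) = 0 from HomologicalComplex.single_obj_d _ _ _ _ _, zero_comp, sub_zero, hg]
    simp
  have hvφ : v ≫ φ'.f j = -b := by
    simp only [v, φ', Category.assoc, mappingCone.inl_v_desc_f]
    rw [show α.v (j + 1) j (by omega) = -(e.hom ≫ b) from Cochain.single_v _ _ _]
    simp
  -- the terms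
  have hX : ∀ i, i ≠ j → IsIso ((mappingCone.inr g).f i) := fun i hi => by
    refine ⟨(mappingCone.snd g).v i i (add_zero i), by simp, ?_⟩
    rw [mappingCone.ext_from_iff g (i + 1) i rfl]
    exact ⟨(hS (i + 1) (by omega)).eq_of_src _ _, by simp⟩
  have hv : IsIso v := by
    refine ⟨(mappingCone.fst g).1.v j (j + 1) rfl ≫ e.hom, by simp [v], ?_⟩
    rw [mappingCone.ext_from_iff g (j + 1) j rfl]
    exact ⟨by simp [v], (hE j (by omega)).eq_of_src _ _⟩
  refine ⟨g, φ', hX, by simp [φ'], ⟨(@asIso _ _ _ _ _ hv).symm⟩, ?_⟩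
  -- comparison of the cones
  let θ : mappingCone φ ⟶ mappingCone φ' :=
    mappingCone.map φ φ' (mappingCone.inr g) (𝟙 F) (by simp [φ'])
  have hθinl : ∀ p q : ℤ, ∀ h : p + (-1) = q, (mappingCone.inl φ).v p q h ≫ θ.f q =
      (mappingCone.inr g).f p ≫ (mappingCone.inl φ').v p q h := fun p q h => by
    simp [θ, mappingCone.map]
  have hθinr : ∀ p : ℤ, (mappingCone.inr φ).f p ≫ θ.f p = (mappingCone.inr φ').f p := fun p => by
    simp [θ, mappingCone.map]
  have hθ : ∀ i, j ≤ i → IsIso (θ.f i) := fun i hi => by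
    haveI := hX (i + 1) (by omega)
    refine ⟨(mappingCone.fst φ').1.v i (i + 1) rfl ≫ inv ((mappingCone.inr g).f (i + 1)) ≫
      (mappingCone.inl φ).v (i + 1) i (by omega) + (mappingCone.snd φ').v i i (add_zero i) ≫ (mappingCone.inr φ).f i,
      ?_, ?_⟩
    · rw [mappingCone.ext_from_iff φ (i + 1) i rfl]
      refine ⟨?_, ?_⟩
      · rw [← Category.assoc, hθinl]
        simp
      · rw [← Category.assoc, hθinr]
        simp
    · rw [mappingCone.ext_from_iff φ' (i + 1) i rfl]
      refine ⟨?_, ?_⟩
      · simp [hθinl]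
      · simp [hθinr]
  let hh : P ⟶ (mappingCone φ').X (j - 1) := -(v ≫ (mappingCone.inl φ').v j (j - 1) (by omega))
  have hhd : hh ≫ (mappingCone φ').d (j - 1) j = x ≫ θ.f j := by
    have hxd : x = a ≫ (mappingCone.inl φ).v (j + 1) j (by omega) + b ≫ (mappingCone.inr φ).f j := by
      apply mappingCone.ext_to φ j (j + 1) rfl <;> simp [a, b]
    refine Eq.trans ?_ (congrArg (· ≫ θ.f j) hxd.symm)
    simp only [Preadditive.add_comp, Category.assoc, hθinl, hθinr]
    simp only [hh, Preadditive.neg_comp, Category.assoc,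
      mappingCone.inl_v_d φ' j (j - 1) (j + 1) (by omega) (by omega), Preadditive.comp_sub, reassoc_of% hvd,
      reassoc_of% hvφ, Preadditive.neg_comp]
    abel
  refine ⟨θ, fun i hi => ?_, ?_⟩
  · haveI := hθ (i + 1) (by omega)
    exact StrictRes20.epi_homologyMap_of_isIso θ i (hθ i hi) inferInstance
  · rw [homologyπ_naturality]
    have hz : ψ ≫ cyclesMap θ j = hh ≫ (mappingCone φ').toCycles (j - 1) j := by
      rw [← cancel_mono ((mappingCone φ').iCycles j)]
      simp [hhd, x]
    rw [← Category.assoc, hz]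
    simp

end GrothLib.ExtendCx20
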