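import Groth.Agent.Lib.ExtendCx20.Cover
import Groth.Agent.Lib.ExtendCx20.Step
import Groth.Agent.Lib.StrictRes20.Basic

/-! # Free approximations on an affine scheme, up to restriction to an open -/

set_option autoImplicit false
set_option backward.isDefEq.respectTransparency false
set_option linter.style.haveILetI false
set_option maxHeartbeats 1000000
universe u

open CategoryTheory CategoryTheory.Limits CategoryTheory.Pretriangulated AlgebraicGeometry
attribute [local instance] HasDerivedCategory.standard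

noncomputable section

namespace GrothLib.ExtendCx20

variable {X : Scheme.{u}} (U : X.Opens) (F : CochainComplex X.Modules ℤ)

/-- Finite free complexes in degrees `[k, b]` approximating `F` over `U`. -/
def Stage (b k : ℤ) : Prop :=
  ∃ (G : CochainComplex X.Modules ℤ) (φ : G ⟶ F), DCoh.VanishesOutside G k b ∧
    (∀ i, ∃ n : ℕ, Nonempty (G.X i ≅ FlatMod.freeMod X n)) ∧
    ∀ i, k ≤ i → IsZero ((CochainComplex.mappingCone ((DCoh.restrictCx U).map φ)).homology i)

/-- Homology commutes with restriction. -/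
def resHomIso (K : CochainComplex X.Modules ℤ) (i : ℤ) :
    ((DCoh.restrictCx U).obj K).homology i ≅ (Scheme.Modules.restrictFunctor U.ι).obj (K.homology i) :=
  (K.sc i).mapHomologyIso (Scheme.Modules.restrictFunctor U.ι)

/-- The cone of a restriction. -/
def coneIso {G : CochainComplex X.Modules ℤ} (φ : G ⟶ F) (i : ℤ) :
    (CochainComplex.mappingCone ((DCoh.restrictCx U).map φ)).homology i ≅
      (Scheme.Modules.restrictFunctor U.ι).obj ((CochainComplex.mappingCone φ).homology i) :=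
  (HomologicalComplex.homologyFunctor _ _ i).mapIso
    (CochainComplex.mappingCone.mapHomologicalComplexIso φ (Scheme.Modules.restrictFunctor U.ι)).symm ≪≫
  resHomIso U _ i

theorem isFinLocFree_terms {G : CochainComplex X.Modules ℤ}
    (hfr : ∀ i, ∃ n : ℕ, Nonempty (G.X i ≅ FlatMod.freeMod X n)) (i : ℤ) : FlatMod.IsFinLocFree (G.X i) := by
  obtain ⟨n, ⟨e⟩⟩ := hfr i
  exact DCoh.isFinLocFree_of_iso e.symm (OX.isFinLocFree_freeMod X n)

theorem stage_top (b : ℤ) (hb : ∀ i, b < i → IsZero (((DCoh.restrictCx U).obj F).homology i)) :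
    Stage U F b (b + 1) := by
  obtain ⟨O, hO⟩ : ∃ O : CochainComplex X.Modules ℤ, IsZero O := ⟨_, HomologicalComplex.isZero_zero⟩
  have hz : ∀ i, IsZero (O.X i) := fun i => (HomologicalComplex.eval _ _ i).map_isZero hO
  refine ⟨O, 0, fun i _ => hz i, fun i => ⟨0, ⟨(hz i).iso (Euler.isZero_freeMod_zero X)⟩⟩, fun i hi => ?_⟩
  let ψ := (DCoh.restrictCx U).map (0 : O ⟶ F)
  haveI : IsIso (Triangle.mor₂ (DerivedCategory.Q.mapTriangle.obj (CochainComplex.mappingCone.triangle ψ))) :=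
    (Triangle.isZero₁_iff_isIso₂ _ (DerivedCategory.mappingCone_triangle_distinguished ψ)).1
      (DerivedCategory.Q.map_isZero ((DCoh.restrictCx U).map_isZero hO))
  exact (((hb i (by omega)).of_iso (OX.hdIso _ i)).of_iso ((DerivedCategory.homologyFunctor _ i).mapIso
    (asIso (Triangle.mor₂ (DerivedCategory.Q.mapTriangle.obj
      (CochainComplex.mappingCone.triangle ψ)))).symm)).of_iso (OX.hdIso _ i).symm

variable [IsAffine X] (hU : IsCompact (U : Set X)) (hFq : ∀ n : ℤ, Coh.IsQCoh (F.X n))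
  (hFpc : ∀ m : ℤ, DCoh.IsPseudoCoherentD m (DCoh.toD (U : Scheme.{u}) ((DCoh.restrictCx U).obj F)))

include hU hFq hFpc in
theorem stage_step_map {b k : ℤ} (hkb : k ≤ b + 1) {G : CochainComplex X.Modules ℤ} (φ : G ⟶ F)
    (hG : DCoh.VanishesOutside G k b) (hfr : ∀ i, ∃ n : ℕ, Nonempty (G.X i ≅ FlatMod.freeMod X n))
    (hC : ∀ i, k ≤ i → IsZero ((CochainComplex.mappingCone ((DCoh.restrictCx U).map φ)).homology i)) :
    ∃ (G' : CochainComplex X.Modules ℤ) (φ' : G' ⟶ F) (ι : G ⟶ G'),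
      DCoh.VanishesOutside G' (k - 1) b ∧ (∀ i, ∃ n : ℕ, Nonempty (G'.X i ≅ FlatMod.freeMod X n)) ∧
      (∀ i, k - 1 ≤ i → IsZero ((CochainComplex.mappingCone ((DCoh.restrictCx U).map φ')).homology i)) ∧
      ι ≫ φ' = φ ∧ ∀ i, i ≠ k - 1 → IsIso (ι.f i) := by
  let R := Scheme.Modules.restrictFunctor U.ι
  let C := CochainComplex.mappingCone φ
  let φU := (DCoh.restrictCx U).map φ
  let CU := CochainComplex.mappingCone φU
  have hGfl := isFinLocFree_terms hfr
  have hCq := StrictRes20.isQCoh_cone F hFq φ hGfl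
  have hGU : DCoh.IsStrictlyPerfect ((DCoh.restrictCx U).obj G) :=
    OX.strictlyPerfect_resCx U.ι ⟨⟨k, b, hG⟩, hGfl⟩
  have hEp := KSix19.ProjPush.isPerfect_Q _ hGU
  have hCpc : DCoh.IsPseudoCoherentD (k - 1) (DCoh.toD _ CU) :=
    OX.isPseudoCoherentD_cone (DerivedCategory.mappingCone_triangle_distinguished φU)
      (OX.isPseudoCoherentD_of_isPerfect hEp _) (hFpc _)
  have hFT : CohB1.IsFT (DCoh.HD (DCoh.toD _ CU) (k - 1)) :=
    OX.isFT_HD_top hCpc fun i hi => (hC i (by omega)).of_iso (OX.hdIso CU i)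
  haveI hZq : (C.cycles (k - 1)).IsQuasicoherent := OX.isQCoh_cycles C hCq (k - 1)
  haveI hHq : (C.homology (k - 1)).IsQuasicoherent := OX.isQuasicoherent_homology hCq (k - 1)
  let e : R.obj (C.homology (k - 1)) ≅ DCoh.HD (DCoh.toD _ CU) (k - 1) :=
    (coneIso U F φ (k - 1)).symm ≪≫ (OX.hdIso CU (k - 1)).symm
  haveI : (DCoh.HD (DCoh.toD _ CU) (k - 1)).IsQuasicoherent :=
    OX.isQCoh_of_iso e (inferInstanceAs ((C.homology (k - 1)).restrict U.ι).IsQuasicoherent)
  haveI : Epi (R.map (C.homologyπ (k - 1))) := inferInstance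
  let p : (C.cycles (k - 1)).restrict U.ι ⟶ DCoh.HD (DCoh.toD _ CU) (k - 1) :=
    R.map (C.homologyπ (k - 1)) ≫ e.hom
  haveI : Epi p := epi_comp _ _
  obtain ⟨n, ψ, hψ⟩ := exists_free_cover U hU hFT p
  obtain ⟨g, φ', hXI, hcomp, ⟨eP⟩, θ, hθ, hθ0⟩ :=
    exists_step_map φ (k - 1) k (by omega) (fun i hi => hG i (Or.inl hi)) ψ
  have hXi : ∀ i, i ≠ k - 1 → Nonempty ((CochainComplex.mappingCone g).X i ≅ G.X i) := fun i hi =>
    ⟨(@asIso _ _ _ _ _ (hXI i hi)).symm⟩
  refine ⟨_, φ', CochainComplex.mappingCone.inr g, fun i hi => ?_, fun i => ?_, fun i hi => ?_, hcomp, hXI⟩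
  · obtain ⟨ei⟩ := hXi i (by omega)
    exact (hG i (by omega)).of_iso ei
  · by_cases hik : i = k - 1
    · subst hik; exact ⟨n, ⟨eP⟩⟩
    · obtain ⟨ei⟩ := hXi i hik
      obtain ⟨n', ⟨en⟩⟩ := hfr i
      exact ⟨n', ⟨ei ≪≫ en⟩⟩
  · refine IsZero.of_iso ?_ (coneIso U F φ' i)
    haveI := hθ i hi
    haveI hep : Epi (R.map (HomologicalComplex.homologyMap θ i)) := inferInstance
    have h0 : R.map (HomologicalComplex.homologyMap θ i) = 0 := by
      rcases eq_or_lt_of_le hi with rfl | h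
      · haveI := hψ
        haveI : Epi (R.map ψ ≫ R.map (C.homologyπ (k - 1))) := by
          have : R.map ψ ≫ R.map (C.homologyπ (k - 1)) = (R.map ψ ≫ p) ≫ e.inv := by simp [p]
          rw [this]
          exact epi_comp _ _
        rw [← cancel_epi (R.map ψ ≫ R.map (C.homologyπ (k - 1))), comp_zero, Category.assoc,
          ← R.map_comp, ← R.map_comp, hθ0, R.map_zero]
      · exact ((hC i (by omega)).of_iso (coneIso U F φ i).symm).eq_of_src _ _
    rw [IsZero.iff_id_eq_zero, ← cancel_epi (R.map (HomologicalComplex.homologyMap θ i)), h0]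
    simp

include hU hFq hFpc in
theorem stage_step {b k : ℤ} (hkb : k ≤ b + 1) (h : Stage U F b k) : Stage U F b (k - 1) := by
  obtain ⟨G, φ, hG, hfr, hC⟩ := h
  obtain ⟨G', φ', _, h₁, h₂, h₃, _⟩ := stage_step_map U F hU hFq hFpc hkb φ hG hfr hC
  exact ⟨G', φ', h₁, h₂, h₃⟩

include hU hFq hFpc in
theorem exists_stage (b : ℤ) (hb : ∀ i, b < i → IsZero (((DCoh.restrictCx U).obj F).homology i)) :
    ∀ r : ℕ, Stage U F b (b + 1 - r)
  | 0 => by simpa using stage_top U F b hb
  | r + 1 => by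
    have := stage_step U F hU hFq hFpc (show b + 1 - (r : ℤ) ≤ b + 1 by omega) (exists_stage b hb r)
    rwa [show b + 1 - ((r + 1 : ℕ) : ℤ) = b + 1 - (r : ℤ) - 1 by push_cast; ring]

end GrothLib.ExtendCx20
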